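import Mathlib

/-! A finite table criterion for two groups to have isomorphic Sylow subgroups. -/

set_option autoImplicit false

namespace Cfsg.Lib.SylowTables

theorem isPGroup_and_index {Z : Type*} [Group Z] [Finite Z] {p a n : ℕ} [Fact p.Prime] (m : ℕ)
    (hZ : Nat.card Z = p ^ a * m) (hm : ¬ p ∣ m) (hn : n = p ^ a) (H : Subgroup Z)
    (hH : Nat.card H = n) : IsPGroup p H ∧ ¬ p ∣ H.index := by
  refine ⟨IsPGroup.of_card (hH.trans hn), ?_⟩
  have h := H.card_mul_index
  rw [hH, hn, hZ] at h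
  rwa [Nat.eq_of_mul_eq_mul_left (pow_pos (Fact.out : p.Prime).pos a) h]

theorem sylow_iso_of_table {X Y : Type*} [Group X] [Group Y] [Finite X] [Finite Y] {p a r : ℕ}
    [Fact p.Prime] (mX mY : ℕ) (hX : Nat.card X = p ^ a * mX) (hY : Nat.card Y = p ^ a * mY)
    (hmX : ¬ p ∣ mX) (hmY : ¬ p ∣ mY) {n : ℕ} (hn : n = p ^ a)
    (E : Fin n → X × Y) (i0 : Fin n) (h0 : E i0 = 1)
    (gi : Fin r → Fin n) (nxt : Fin n → Fin r → Fin n)
    (hstep : ∀ k t, E k * E (gi t) = E (nxt k t))
    (par : Fin n → Fin n × Fin r)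
    (hpar : ∀ k, k ≠ i0 → (par k).1 < k ∧ nxt (par k).1 (par k).2 = k)
    (hfst : Function.Injective fun k => (E k).1) (hsnd : Function.Injective fun k => (E k).2)
    (P : Sylow p X) (Q : Sylow p Y) :
    Nonempty ((P : Subgroup X) ≃* (Q : Subgroup Y)) := by
  let D : Subgroup (X × Y) := Subgroup.closure (Set.range fun t => E (gi t))
  have hmem : ∀ k, E k ∈ D := by
    intro k
    induction k using WellFoundedLT.induction with
    | ind k ih =>
      by_cases hk : k = i0
      · rw [hk, h0]; exact D.one_mem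
      · obtain ⟨h1, h2⟩ := hpar k hk
        rw [← h2, ← hstep]
        exact D.mul_mem (ih _ h1) (Subgroup.subset_closure ⟨(par k).2, rfl⟩)
  have hrange : ∀ x ∈ D, ∃ k, E k = x := by
    intro x hx
    have hx' : x ∈ Submonoid.closure (Set.range fun t => E (gi t)) := by
      rw [← Subgroup.closure_toSubmonoid_of_finite]; exact hx
    induction hx' using Submonoid.closure_induction_right with
    | one => exact ⟨i0, h0⟩
    | mul_right y hy z hz ih =>
      obtain ⟨t, rfl⟩ := hz
      obtain ⟨k, hk⟩ := ih (by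
        have h : y ∈ (Subgroup.closure (Set.range fun t => E (gi t))).toSubmonoid := by
          rw [Subgroup.closure_toSubmonoid_of_finite]; exact hy
        exact h)
      exact ⟨nxt k t, by rw [← hstep, hk]⟩
  have hcard : Nat.card D = n := by
    have hb : Function.Bijective (fun k => (⟨E k, hmem k⟩ : D)) :=
      ⟨fun j k h => hfst (congrArg (fun z : D => z.1.1) h), fun x => by
        obtain ⟨k, hk⟩ := hrange x.1 x.2
        exact ⟨k, Subtype.ext hk⟩⟩
    rw [← Nat.card_eq_of_bijective _ hb, Nat.card_fin]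
  let φ : D →* X := (MonoidHom.fst X Y).comp D.subtype
  let ψ : D →* Y := (MonoidHom.snd X Y).comp D.subtype
  have hφ : Function.Injective φ := by
    intro x y h
    obtain ⟨j, hj⟩ := hrange x.1 x.2
    obtain ⟨k, hk⟩ := hrange y.1 y.2
    have : j = k := hfst (by change (E j).1 = (E k).1; rw [hj, hk]; exact h)
    exact Subtype.ext (by rw [← hj, ← hk, this])
  have hψ : Function.Injective ψ := by
    intro x y h
    obtain ⟨j, hj⟩ := hrange x.1 x.2
    obtain ⟨k, hk⟩ := hrange y.1 y.2
    have : j = k := hsnd (by change (E j).2 = (E k).2; rw [hj, hk]; exact h)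
    exact Subtype.ext (by rw [← hj, ← hk, this])
  have c1 : Nat.card φ.range = n := by
    rw [← Nat.card_congr (MonoidHom.ofInjective hφ).toEquiv, hcard]
  have c2 : Nat.card ψ.range = n := by
    rw [← Nat.card_congr (MonoidHom.ofInjective hψ).toEquiv, hcard]
  obtain ⟨p1, i1⟩ := isPGroup_and_index mX hX hmX hn φ.range c1
  obtain ⟨p2, i2⟩ := isPGroup_and_index mY hY hmY hn ψ.range c2
  exact ⟨((P.equiv (p1.toSylow i1)).trans ((MulEquiv.subgroupCongr (IsPGroup.toSylow_coe p1 i1)).trans
    ((MonoidHom.ofInjective hφ).symm.trans ((MonoidHom.ofInjective hψ).trans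
      ((MulEquiv.subgroupCongr (IsPGroup.toSylow_coe p2 i2).symm).trans ((p2.toSylow i2).equiv Q))))))⟩

end Cfsg.Lib.SylowTables
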