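import Cfsg.Agent.LocalEven.SylowTables
import Cfsg.Agent.LocalEven.SylowTableLemma
import Cfsg.Agent.Classical.Symp.Matrix
import Cfsg.Agent.Classical.Orth.Orders

/-! Sylow two-subgroups of `A₈` and `PSp₄(3)`, of `S₈` and `O₆⁻(2)`, matched by explicit tables. -/

set_option autoImplicit false

open Matrix

namespace Cfsg.Lib.SylowTables

abbrev I4 := Fin 2 ⊕ Fin 2
abbrev I6 := (Fin 2 ⊕ Fin 2) ⊕ Fin 2

def c4 : I4 → ℕ
  | .inl i => i
  | .inr i => 2 + i

def c6 : I6 → ℕ
  | .inl (.inl i) => i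
  | .inl (.inr i) => 2 + i
  | .inr i => 4 + i

def pA (k : Fin 64) (i : Fin 8) : Fin 8 := Fin.ofNat 8 (permA.getD k 0 / 8 ^ (i : ℕ))
def pS (k : Fin 128) (i : Fin 8) : Fin 8 := Fin.ofNat 8 (permS.getD k 0 / 8 ^ (i : ℕ))
def iA (k : Fin 64) : Fin 64 := Fin.ofNat 64 (invA.getD k 0)
def iS (k : Fin 128) : Fin 128 := Fin.ofNat 128 (invS.getD k 0)
def gA (t : Fin 3) : Fin 64 := Fin.ofNat 64 (genA.getD t 0)
def gS (t : Fin 3) : Fin 128 := Fin.ofNat 128 (genS.getD t 0)
def nA (k : Fin 64) (t : Fin 3) : Fin 64 := Fin.ofNat 64 (nxtA.getD (3 * k + t) 0)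
def nS (k : Fin 128) (t : Fin 3) : Fin 128 := Fin.ofNat 128 (nxtS.getD (3 * k + t) 0)
def parentA (k : Fin 64) : Fin 64 × Fin 3 :=
  (Fin.ofNat 64 (parA.getD k 0 / 3), Fin.ofNat 3 (parA.getD k 0))
def parentS (k : Fin 128) : Fin 128 × Fin 3 :=
  (Fin.ofNat 128 (parS.getD k 0 / 3), Fin.ofNat 3 (parS.getD k 0))

def mA (k : Fin 64) : Matrix I4 I4 (ZMod 3) :=
  Matrix.of fun i j => (Fin.ofNat 3 (matA.getD k 0 / 3 ^ (4 * c4 i + c4 j)) : Fin 3)
def mS (k : Fin 128) : Matrix I6 I6 (ZMod 2) :=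
  Matrix.of fun i j => (Fin.ofNat 2 (matS.getD k 0 / 2 ^ (6 * c6 i + c6 j)) : Fin 2)

def q0 (v : I6 → ZMod 2) : ZMod 2 :=
  v (.inl (.inl 0)) * v (.inl (.inr 0)) + v (.inl (.inl 1)) * v (.inl (.inr 1)) +
    (v (.inr 0) * v (.inr 0) + v (.inr 0) * v (.inr 1) + v (.inr 1) * v (.inr 1))

theorem pA_inv : ∀ k i, pA (iA k) (pA k i) = i ∧ pA k (pA (iA k) i) = i := by decide +kernel
theorem pS_inv : ∀ k i, pS (iS k) (pS k i) = i ∧ pS k (pS (iS k) i) = i := by decide +kernel
theorem pA_step : ∀ k t i, pA k (pA (gA t) i) = pA (nA k t) i := by decide +kernel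
theorem pS_step : ∀ k t i, pS k (pS (gS t) i) = pS (nS k t) i := by decide +kernel
theorem pA_inj : ∀ j k, (∀ i, pA j i = pA k i) → j = k := by decide +kernel
theorem pS_inj : ∀ j k, (∀ i, pS j i = pS k i) → j = k := by decide +kernel
theorem pA_zero : ∀ i, pA 0 i = i := by decide +kernel
theorem pS_zero : ∀ i, pS 0 i = i := by decide +kernel
theorem parentA_spec : ∀ k, k ≠ 0 → (parentA k).1 < k ∧ nA (parentA k).1 (parentA k).2 = k := by
  decide +kernel
theorem parentS_spec : ∀ k, k ≠ 0 → (parentS k).1 < k ∧ nS (parentS k).1 (parentS k).2 = k := by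
  decide +kernel

theorem mA_zero : mA 0 = 1 := by decide +kernel
theorem mA_symp : ∀ t, mA (gA t) * Matrix.J (Fin 2) (ZMod 3) * (mA (gA t))ᵀ =
    Matrix.J (Fin 2) (ZMod 3) := by decide +kernel
theorem mA_step : ∀ k t, mA k * mA (gA t) = mA (nA k t) ∨ mA k * mA (gA t) = -mA (nA k t) := by
  decide +kernel
theorem mA_inj : ∀ j k, (mA j = mA k ∨ mA j = -mA k) → j = k := by decide +kernel
theorem mS_zero : mS 0 = 1 := by decide +kernel
theorem mS_form : ∀ t, ∀ w : I6 → ZMod 2, q0 (mS (gS t) *ᵥ w) = q0 w := by decide +kernel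
theorem mS_inv : ∀ k, mS k * mS (iS k) = 1 := by decide +kernel
theorem mS_step : ∀ k t, mS k * mS (gS t) = mS (nS k t) := by decide +kernel
theorem mS_inj : ∀ j k, mS j = mS k → j = k := by decide +kernel

def eA (k : Fin 64) : Equiv.Perm (Fin 8) :=
  ⟨pA k, pA (iA k), fun i => (pA_inv k i).1, fun i => (pA_inv k i).2⟩
def eS (k : Fin 128) : Equiv.Perm (Fin 8) :=
  ⟨pS k, pS (iS k), fun i => (pS_inv k i).1, fun i => (pS_inv k i).2⟩

theorem eA_zero : eA 0 = 1 := Equiv.ext pA_zero
theorem eS_zero : eS 0 = 1 := Equiv.ext pS_zero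
theorem eA_step (k : Fin 64) (t : Fin 3) : eA k * eA (gA t) = eA (nA k t) := Equiv.ext (pA_step k t)
theorem eS_step (k : Fin 128) (t : Fin 3) : eS k * eS (gS t) = eS (nS k t) := Equiv.ext (pS_step k t)

theorem induction_on_table {n r : ℕ} {i0 : Fin n} {nxt : Fin n → Fin r → Fin n}
    {par : Fin n → Fin n × Fin r}
    (hpar : ∀ k, k ≠ i0 → (par k).1 < k ∧ nxt (par k).1 (par k).2 = k)
    (P : Fin n → Prop) (h0 : P i0) (hs : ∀ k t, P k → P (nxt k t)) : ∀ k, P k := by
  intro k
  induction k using WellFoundedLT.induction with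
  | ind k ih =>
    by_cases hk : k = i0
    · rwa [hk]
    · obtain ⟨h1, h2⟩ := hpar k hk
      rw [← h2]
      exact hs _ _ (ih _ h1)

theorem sign_gA : ∀ t, Equiv.Perm.sign (eA (gA t)) = 1 := by decide +kernel

theorem eA_even : ∀ k, eA k ∈ alternatingGroup (Fin 8) :=
  induction_on_table parentA_spec _ (by rw [eA_zero]; exact one_mem _) fun k t h => by
    rw [← eA_step]
    exact mul_mem h (Equiv.Perm.mem_alternatingGroup.mpr (sign_gA t))

theorem map_J {R S : Type*} [CommRing R] [CommRing S] (φ : R →+* S) :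
    (Matrix.J (Fin 2) R).map φ = Matrix.J (Fin 2) S := by
  ext i j
  rcases i with i | i <;> rcases j with j | j <;> simp [Matrix.J, Matrix.one_apply, apply_ite φ]

theorem alt_iso_psp (F : Type) [Field F] [Fintype F] (hF : Fintype.card F = 3)
    (P : Sylow 2 ↥(alternatingGroup (Fin 8))) (Q : Sylow 2 (Cfsg.PSp 2 F)) :
    Nonempty (↥(P : Subgroup ↥(alternatingGroup (Fin 8))) ≃* ↥(Q : Subgroup (Cfsg.PSp 2 F))) := by
  haveI : CharP F 3 := charP_of_card_eq_prime hF
  set φ : ZMod 3 →+* F := ZMod.castHom (dvd_refl 3) F with hφdef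
  have hφi : Function.Injective φ := φ.injective
  have hneg : ∀ M : Matrix I4 I4 (ZMod 3), (-M).map φ = -(M.map φ) := fun M => by
    ext i j; simp
  have hmapi : ∀ M N : Matrix I4 I4 (ZMod 3), M.map φ = N.map φ → M = N := fun M N h => by
    ext i j; exact hφi (congrFun (congrFun h i) j)
  have hsymp : ∀ k, (mA k).map φ ∈ Matrix.symplecticGroup (Fin 2) F := by
    refine induction_on_table parentA_spec _ ?_ ?_
    · rw [mA_zero, Matrix.map_one φ (map_zero φ) (map_one φ)]; exact one_mem _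
    · intro k t hk
      have hg : (mA (gA t)).map φ ∈ Matrix.symplecticGroup (Fin 2) F := by
        rw [SymplecticGroup.mem_iff, ← map_J φ, ← Matrix.transpose_map, ← Matrix.map_mul,
          ← Matrix.map_mul, mA_symp]
      have h := mul_mem hk hg
      rw [← Matrix.map_mul] at h
      rcases mA_step k t with e | e <;> rw [e] at h
      · exact h
      · rw [hneg, SymplecticGroup.mem_iff] at h
        rw [SymplecticGroup.mem_iff]
        simpa [Matrix.transpose_neg] using h
  let s : Fin 64 → Matrix.symplecticGroup (Fin 2) F := fun k => ⟨(mA k).map φ, hsymp k⟩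
  let z : Matrix.symplecticGroup (Fin 2) F := ⟨-1, by rw [SymplecticGroup.mem_iff]; simp⟩
  have hzc : z ∈ Subgroup.center (Matrix.symplecticGroup (Fin 2) F) := by
    rw [Subgroup.mem_center_iff]
    intro g
    apply Subtype.ext
    change (g : Matrix I4 I4 F) * -1 = -1 * g
    simp
  have hcz : Nat.card (Subgroup.center (Matrix.symplecticGroup (Fin 2) F)) = 2 := by
    rw [Cfsg.Lib.Classical.card_center_symplecticGroup (by norm_num), Nat.card_eq_fintype_card, hF]
    decide
  have hz1 : z ≠ 1 := by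
    intro h
    have h' := congrFun (congrFun (congrArg Subtype.val h) (.inl 0)) (.inl 0)
    change (-1 : Matrix I4 I4 F) (.inl 0) (.inl 0) = (1 : Matrix I4 I4 F) (.inl 0) (.inl 0) at h'
    simp only [Matrix.neg_apply, Matrix.one_apply_eq] at h'
    exact (Ring.neg_one_ne_one_of_char_ne_two (by rw [ringChar.eq F 3]; norm_num)) h'
  have hcenter : ∀ w ∈ Subgroup.center (Matrix.symplecticGroup (Fin 2) F), w = 1 ∨ w = z := by
    intro w hw
    by_cases h : w = 1
    · exact Or.inl h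
    refine Or.inr ?_
    obtain ⟨y, -, hy⟩ := (Nat.card_eq_two_iff' (1 : Subgroup.center (Matrix.symplecticGroup (Fin 2) F))).mp hcz
    have e1 := hy ⟨w, hw⟩ (fun e => h (congrArg Subtype.val e))
    have e2 := hy ⟨z, hzc⟩ (fun e => hz1 (congrArg Subtype.val e))
    exact congrArg Subtype.val (e1.trans e2.symm)
  let X : Fin 64 → ↥(alternatingGroup (Fin 8)) := fun k => ⟨eA k, eA_even k⟩
  let Y : Fin 64 → Cfsg.PSp 2 F := fun k => QuotientGroup.mk (s k)
  have hYstep : ∀ k t, Y k * Y (gA t) = Y (nA k t) := by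
    intro k t
    change QuotientGroup.mk (s k) * QuotientGroup.mk (s (gA t)) = QuotientGroup.mk (s (nA k t))
    rw [← QuotientGroup.mk_mul]
    rcases mA_step k t with e | e
    · congr 1
      apply Subtype.ext
      change (mA k).map φ * (mA (gA t)).map φ = (mA (nA k t)).map φ
      rw [← Matrix.map_mul, e]
    · have e' : s k * s (gA t) = s (nA k t) * z := by
        apply Subtype.ext
        change (mA k).map φ * (mA (gA t)).map φ = (mA (nA k t)).map φ * -1
        rw [← Matrix.map_mul, e, hneg]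
        simp
      rw [e', QuotientGroup.mk_mul_of_mem _ hzc]
  have hYinj : Function.Injective Y := by
    intro j k h
    rcases hcenter _ (QuotientGroup.eq.mp h) with e | e
    · exact mA_inj j k (Or.inl (hmapi _ _ (congrArg Subtype.val (inv_mul_eq_one.mp e))))
    · refine (mA_inj k j (Or.inr (hmapi _ _ ?_))).symm
      rw [inv_mul_eq_iff_eq_mul] at e
      have e' : (mA k).map φ = (mA j).map φ * -1 := congrArg Subtype.val e
      rw [e', hneg]
      simp
  have hsp := Cfsg.Lib.Classical.card_symplecticGroup (F := F) 2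
  rw [Subgroup.card_eq_card_quotient_mul_card_subgroup
    (Subgroup.center (Matrix.symplecticGroup (Fin 2) F)), hcz, Nat.card_eq_fintype_card (α := F), hF] at hsp
  norm_num [Finset.prod_range_succ] at hsp
  have hY : Nat.card (Cfsg.PSp 2 F) = 2 ^ 6 * 405 := by
    have h0 : Nat.card (Cfsg.PSp 2 F) * 2 = 51840 := by simpa using hsp
    omega
  have hX : Nat.card ↥(alternatingGroup (Fin 8)) = 2 ^ 6 * 315 := by
    rw [nat_card_alternatingGroup, Nat.card_fin]; decide
  exact sylow_iso_of_table 315 405 hX hY (by norm_num) (by norm_num) (by norm_num)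
    (fun k => (X k, Y k)) 0
    (Prod.ext (Subtype.ext eA_zero) (by
      change QuotientGroup.mk (s 0) = 1
      rw [show s 0 = 1 from Subtype.ext (by
        change (mA 0).map φ = 1
        rw [mA_zero, Matrix.map_one φ (map_zero φ) (map_one φ)])]
      rfl))
    gA nA (fun k t => Prod.ext (Subtype.ext (eA_step k t)) (hYstep k t)) parentA parentA_spec
    (fun j k h => pA_inj j k fun i => Equiv.congr_fun (congrArg Subtype.val h) i)
    hYinj P Q

theorem perm_iso_orth (K : Type) [Field K] [Fintype K] (hK : Fintype.card K = 2) (a b : K)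
    (hab : ∀ z₁ z₂ : K, z₁ ^ 2 + a * z₁ * z₂ + b * z₂ ^ 2 = 0 → z₁ = 0 ∧ z₂ = 0)
    (P : Sylow 2 (Equiv.Perm (Fin 8))) (Q : Sylow 2 ↥(Cfsg.isometryGroup K (Cfsg.quadFormMinus 2 K a b))) :
    Nonempty (↥(P : Subgroup (Equiv.Perm (Fin 8))) ≃*
      ↥(Q : Subgroup ↥(Cfsg.isometryGroup K (Cfsg.quadFormMinus 2 K a b)))) := by
  haveI : CharP K 2 := charP_of_card_eq_prime hK
  set φ : ZMod 2 →+* K := ZMod.castHom (dvd_refl 2) K with hφdef
  have hφb : Function.Bijective φ :=
    (Fintype.bijective_iff_injective_and_card φ).mpr ⟨φ.injective, by rw [ZMod.card, hK]⟩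
  have h01 : ∀ x : K, x = 0 ∨ x = 1 := by
    intro x
    obtain ⟨y, rfl⟩ := hφb.2 x
    have : y = 0 ∨ y = 1 := by revert y; decide
    exact this.imp (fun h => by rw [h, map_zero]) (fun h => by rw [h, map_one])
  have hb : b = 1 := (h01 b).resolve_left fun h => one_ne_zero (hab 0 1 (by simp [h])).2
  have ha : a = 1 := (h01 a).resolve_left fun h => one_ne_zero (hab 1 1 (by
    rw [h, hb]; simpa using (CharTwo.add_self_eq_zero (1 : K)))).2
  have hmapi : ∀ M N : Matrix I6 I6 (ZMod 2), M.map φ = N.map φ → M = N := fun M N h => by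
    ext i j; exact hφb.1 (congrFun (congrFun h i) j)
  let u : Fin 128 → Matrix.GeneralLinearGroup I6 K := fun k =>
    ⟨(mS k).map φ, (mS (iS k)).map φ,
      by rw [← Matrix.map_mul, mS_inv, Matrix.map_one φ (map_zero φ) (map_one φ)],
      by rw [← Matrix.map_mul, mul_eq_one_comm.mp (mS_inv k),
        Matrix.map_one φ (map_zero φ) (map_one φ)]⟩
  have hustep : ∀ k t, u k * u (gS t) = u (nS k t) := fun k t => Units.ext (by
    change (mS k).map φ * (mS (gS t)).map φ = (mS (nS k t)).map φ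
    rw [← Matrix.map_mul, mS_step])
  have hu0 : u 0 = 1 := Units.ext (by
    change (mS 0).map φ = 1
    rw [mS_zero, Matrix.map_one φ (map_zero φ) (map_one φ)])
  have hq : ∀ w : I6 → ZMod 2, Cfsg.quadFormMinus 2 K a b (φ ∘ w) = φ (q0 w) := by
    intro w
    simp [Cfsg.quadFormMinus, q0, ha, hb, Fin.sum_univ_two, sq]
  have hmem : ∀ k, u k ∈ Cfsg.isometryGroup K (Cfsg.quadFormMinus 2 K a b) := by
    refine induction_on_table parentS_spec _ ?_ ?_
    · rw [hu0]; exact one_mem _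
    · intro k t hk
      rw [← hustep]
      refine mul_mem hk ?_
      intro v _
      obtain ⟨w, rfl⟩ := hφb.2.comp_left v
      have e : ((mS (gS t)).map φ) *ᵥ (φ ∘ w) = φ ∘ (mS (gS t) *ᵥ w) := by
        funext i; exact (RingHom.map_mulVec φ _ _ i).symm
      change Cfsg.quadFormMinus 2 K a b (((mS (gS t)).map φ) *ᵥ (φ ∘ w)) = _
      rw [e, hq, mS_form, ← hq]
  let Y : Fin 128 → ↥(Cfsg.isometryGroup K (Cfsg.quadFormMinus 2 K a b)) := fun k => ⟨u k, hmem k⟩
  have hY : Nat.card ↥(Cfsg.isometryGroup K (Cfsg.quadFormMinus 2 K a b)) = 2 ^ 7 * 405 := by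
    rw [Cfsg.Lib.Classical.OrthCard.card_minus hab 2, Nat.card_eq_fintype_card, hK]
    rfl
  have hX : Nat.card (Equiv.Perm (Fin 8)) = 2 ^ 7 * 315 := by
    rw [Nat.card_perm, Nat.card_fin]; decide
  exact sylow_iso_of_table 315 405 hX hY (by norm_num) (by norm_num) (by norm_num)
    (fun k => (eS k, Y k)) 0 (Prod.ext eS_zero (Subtype.ext hu0))
    gS nS (fun k t => Prod.ext (eS_step k t) (Subtype.ext (hustep k t))) parentS parentS_spec
    (fun j k h => pS_inj j k fun i => Equiv.congr_fun h i)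
    (fun j k h => mS_inj j k (hmapi _ _ (congrArg Units.val (congrArg Subtype.val h)))) P Q

end Cfsg.Lib.SylowTables
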