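import Cfsg.Agent.S3081
import Cfsg.Agent.Fusion.ChainStab
import Cfsg.Agent.Fusion.GroupSystem
import Cfsg.Agent.Components.ZJ.QdSection
import Cfsg.Agent.Components.ZJ.Closed
import Cfsg.Agent.Components.Qd.Free
import Cfsg.Agent.Transfer.Frobenius

/-!
Groups with `SL₂(p)`-free automizers: the largest subgroup of `P` whose normalizer controls strong
fusion is the least centric radical subgroup.
-/

set_option autoImplicit false
set_option linter.style.haveILetI false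
set_option linter.unusedSectionVars false

namespace Cfsg.Lib.LeastCR

open Subgroup
open Cfsg.Lib.Fusion (V2 QdRel)
open scoped commutatorElement

universe u

variable {G : Type u} [Group G] [Finite G] {p : ℕ} [Fact p.Prime]

local notation "SL2" => Matrix.SpecialLinearGroup (Fin 2) (ZMod p)

/-- no `SL₂(p)` in the automizer of a `p`-subgroup means no `Qd(p)` -/
theorem qd_free_of_automizers
    (hfree : ∀ Q : Subgroup G, IsPGroup p ↥Q → ¬ ∃ (H K : Subgroup G) (_ : (K.subgroupOf H).Normal),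
      centralizer (Q : Set G) ≤ K ∧ K ≤ H ∧ H ≤ normalizer (Q : Set G) ∧
      Nonempty ((↥H ⧸ K.subgroupOf H) ≃* SL2)) :
    ¬ Cfsg.Involves ↥(Cfsg.qd p) G := by
  intro hqd
  obtain ⟨B, π, hB⟩ := Fusion.exists_isQdWitness hqd
  let H : Subgroup G :=
    { carrier := {h | ∃ M : SL2, QdRel π h M}
      one_mem' := ⟨1, Fusion.qdRel_one π⟩
      mul_mem' := fun {a b} ha hb => by
        obtain ⟨M, hM⟩ := ha
        obtain ⟨N, hN⟩ := hb
        exact ⟨M * N, hM.mul hN⟩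
      inv_mem' := fun {a} ha => by
        obtain ⟨M, hM⟩ := ha
        exact ⟨M⁻¹, Cfsg.Lib.QData.rel_inv hM⟩ }
  let ρ : H →* SL2 := MonoidHom.mk' (fun h => h.2.choose) fun a b =>
    Cfsg.Lib.QData.rel_unique hB.surj (a * b).2.choose_spec (a.2.choose_spec.mul b.2.choose_spec)
  have hρ : Function.Surjective ρ := fun M => by
    obtain ⟨x, hx⟩ := hB.rel M
    exact ⟨⟨x, M, hx⟩, Cfsg.Lib.QData.rel_unique hB.surj (show x ∈ H from ⟨M, hx⟩).choose_spec hx⟩
  have hK : (ρ.ker.map H.subtype).subgroupOf H = ρ.ker :=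
    comap_map_eq_self_of_injective H.subtype_injective _
  haveI hn : ((ρ.ker.map H.subtype).subgroupOf H).Normal := by rw [hK]; exact ρ.normal_ker
  refine hfree B hB.pgroup ⟨H, ρ.ker.map H.subtype, hn, fun c hc => ?_, map_subtype_le _,
    fun h hh => Cfsg.Lib.QData.rel_normalizer hh.choose_spec,
    ⟨(QuotientGroup.quotientMulEquivOfEq hK).trans (QuotientGroup.quotientKerEquivOfSurjective ρ hρ)⟩⟩
  have hcrel : QdRel π c 1 := fun y => ⟨y, by
    rw [← mem_centralizer_iff.mp hc y y.2, mul_inv_cancel_right], (Fusion.actV_one _).symm⟩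
  exact ⟨⟨c, 1, hcrel⟩,
    Cfsg.Lib.QData.rel_unique hB.surj (show c ∈ H from ⟨1, hcrel⟩).choose_spec hcrel, rfl⟩

/-- strongly closed subgroups are strongly closed in the fusion system -/
theorem stronglyClosed_system {S D : Subgroup G} (hD : Cfsg.IsStronglyClosed D S) :
    (Cfsg.groupFusionSystem S).StronglyClosed D := by
  refine ⟨hD.1, fun R hR φ hφ x => ?_⟩
  obtain ⟨-, hS, g, hg⟩ := hφ
  rw [hg x]
  exact hD.2 x (hR x.2) g (hg x ▸ hS x)

/-- fusion among subsets of `P` is controlled by the normalizer of `Q` -/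
def Ctl (P Q : Subgroup G) : Prop :=
  Q ≤ P ∧ P ≤ normalizer (Q : Set G) ∧ ∀ A : Set G, A ⊆ P → ∀ g : G, (∀ a ∈ A, g * a * g⁻¹ ∈ P) →
    ∃ h ∈ normalizer (Q : Set G), ∀ a ∈ A, h * a * h⁻¹ = g * a * g⁻¹

theorem ctl_step {P Q Q' : Subgroup G} (hQ : Ctl P Q) (hle : Q' ≤ P)
    (hn : P ≤ normalizer (Q' : Set G))
    (h : ∀ A : Set G, A ⊆ P → ∀ g ∈ normalizer (Q : Set G), (∀ a ∈ A, g * a * g⁻¹ ∈ P) →
      ∃ h ∈ normalizer (Q' : Set G), ∀ a ∈ A, h * a * h⁻¹ = g * a * g⁻¹) : Ctl P Q' := by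
  refine ⟨hle, hn, fun A hA g hg => ?_⟩
  obtain ⟨h₁, h₁n, h₁e⟩ := hQ.2.2 A hA g hg
  obtain ⟨h₂, h₂n, h₂e⟩ := h A hA h₁ h₁n fun a ha => (h₁e a ha).symm ▸ hg a ha
  exact ⟨h₂, h₂n, fun a ha => (h₂e a ha).trans (h₁e a ha)⟩

theorem mem_normalizer_of_maps {X : Subgroup G} {g : G} (h : ∀ x ∈ X, g * x * g⁻¹ ∈ X) :
    g ∈ normalizer (X : Set G) := by
  rw [← Cfsg.Lib.Transfer.map_conj_eq_self_iff]
  refine eq_of_le_of_card_ge ?_ (Cfsg.Lib.Transfer.card_map_conj X g).ge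
  rintro _ ⟨x, hx, rfl⟩
  exact h x hx

theorem conj_mem_centralizer {Q : Subgroup G} {n c : G} (hn : n ∈ normalizer (Q : Set G))
    (hc : c ∈ centralizer (Q : Set G)) : n * c * n⁻¹ ∈ centralizer (Q : Set G) :=
  (mem_normalizer_iff.mp (Cfsg.Lib.Thompson.normalizer_le_normalizer_centralizer Q hn) c).mp hc

/-- a maximal subgroup with controlling normalizer contains the `p`-part of its centralizer -/
theorem centric_of_maximal (hp : p ≠ 2) (hqd : ¬ Cfsg.Involves ↥(Cfsg.qd p) G) (P : Sylow p G)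
    {Q : Subgroup G} (hQ : Ctl (P : Subgroup G) Q)
    (hmax : ∀ Q' : Subgroup G, Ctl (P : Subgroup G) Q' → Q ≤ Q' → Q' ≤ Q) :
    (P : Subgroup G) ⊓ centralizer (Q : Set G) ≤ Q := by
  by_contra hcon
  obtain ⟨d, hd, hdQ⟩ := SetLike.not_le_iff_exists.mp hcon
  set N := normalizer (Q : Set G)
  have hPN : (P : Subgroup G) ≤ N := hQ.2.1
  have hCN : centralizer (Q : Set G) ≤ N := centralizer_le_normalizer (Q : Set G)
  set PN : Sylow p N := P.subtype hPN
  have hmemPN : ∀ x : N, x ∈ (PN : Subgroup N) ↔ (x : G) ∈ (P : Subgroup G) := fun x => Iff.rfl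
  set Qn := Q.subgroupOf N
  haveI : Qn.Normal := (normal_subgroupOf_iff_le_normalizer le_normalizer).mpr le_rfl
  set π := QuotientGroup.mk' Qn with hπdef
  have hπ : Function.Surjective π := QuotientGroup.mk'_surjective Qn
  have hπeq : ∀ x y : N, π x = π y → x⁻¹ * y ∈ Qn := fun x y h => QuotientGroup.eq.mp h
  set Pb := PN.mapSurjective hπ
  have hPb : (Pb : Subgroup (N ⧸ Qn)) = (PN : Subgroup N).map π := rfl
  set D : Subgroup N := ((P : Subgroup G) ⊓ centralizer (Q : Set G)).subgroupOf N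
  have hDP : D ≤ (PN : Subgroup N) := fun x hx => hx.1
  set Db := D.map π
  have hDb : Cfsg.IsStronglyClosed Db (Pb : Subgroup (N ⧸ Qn)) := by
    refine ⟨map_mono hDP, ?_⟩
    rintro _ ⟨x, hx, rfl⟩ g' hg
    obtain ⟨g, rfl⟩ := hπ g'
    rw [← map_inv, ← map_mul, ← map_mul] at hg ⊢
    obtain ⟨a, ha, hae⟩ := hg
    have hq := hπeq a (g * x * g⁻¹) hae
    have hyP : g * x * g⁻¹ ∈ (PN : Subgroup N) := by
      have := (PN : Subgroup N).mul_mem ha (show a⁻¹ * (g * x * g⁻¹) ∈ (PN : Subgroup N) from hQ.1 hq)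
      rwa [mul_inv_cancel_left] at this
    exact mem_map_of_mem π ⟨hyP, conj_mem_centralizer g.2 hx.2⟩
  have hqdN : ¬ Cfsg.Involves ↥(Cfsg.qd p) (N ⧸ Qn) := fun h => hqd
    (Cfsg.Lib.QdFree.involves_of_injective N.subtype_injective
      (Cfsg.Lib.QuadPair.involves_of_surjective hπ h))
  set W := Cfsg.centerThompsonAOf Db
  have hWD : W ≤ Db := inf_le_left.trans (map_subtype_le _)
  have hDb1 : Db ≠ ⊥ := fun h => hdQ <| by
    have h1 : π ⟨d, hCN hd.2⟩ ∈ Db := mem_map_of_mem π (show (⟨d, hCN hd.2⟩ : N) ∈ D from hd)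
    rw [h, mem_bot] at h1
    have h2 : (⟨d, hCN hd.2⟩ : N) ∈ Qn := (QuotientGroup.eq_one_iff _).mp h1
    exact h2
  have hW1 : W ≠ ⊥ :=
    Cfsg.Lib.ZJ.centerThompsonAOf_ne_bot (Pb.isPGroup'.to_le hDb.1) hDb1
  have hWcl : Cfsg.IsStronglyClosed W (Pb : Subgroup (N ⧸ Qn)) := by
    refine ⟨hWD.trans hDb.1, fun x hx g hg => ?_⟩
    obtain ⟨-, hc⟩ := (Cfsg.Agent.S3081.result hp Pb Db hDb hqdN).1 {x} (by
      rintro _ rfl
      exact hWD.trans hDb.1 hx)
    obtain ⟨h, hh, he⟩ := hc g (by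
      rintro _ ⟨a, rfl, rfl⟩
      exact hg)
    rw [he x rfl]
    exact (mem_normalizer_iff.mp hh x).mp hx
  have hWab : ∀ a ∈ W, ∀ b ∈ W, a * b = b * a := by
    intro a ha b hb
    obtain ⟨A, hA⟩ := Cfsg.Lib.Fusion.maxAb_nonempty (T := Db)
    haveI := hA.2.1
    have hle : W ≤ A := (Cfsg.Lib.Fusion.centerThompsonAOf_eq Db).le.trans (iInf₂_le A hA)
    exact congrArg Subtype.val (mul_comm' (⟨a, hle ha⟩ : A) ⟨b, hle hb⟩)
  set W₁ := W.comap π ⊓ D
  have hW₁P : W₁ ≤ (PN : Subgroup N) := inf_le_right.trans hDP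
  have hW₁cl : Cfsg.IsStronglyClosed W₁ (PN : Subgroup N) := by
    refine ⟨hW₁P, fun x hx g hg => ⟨?_, hg, conj_mem_centralizer g.2 hx.2.2⟩⟩
    show π (g * x * g⁻¹) ∈ W
    rw [map_mul, map_mul, map_inv]
    refine hWcl.2 _ hx.1 _ ?_
    rw [← map_inv, ← map_mul, ← map_mul]
    exact mem_map_of_mem π hg
  obtain ⟨w, hwW₁, hwQ⟩ : ∃ w ∈ W₁, w ∉ Qn := by
    obtain ⟨⟨w', hw'⟩, hw1⟩ := (W.ne_bot_iff_exists_ne_one).mp hW1
    obtain ⟨w, hw, rfl⟩ := hWD hw'
    exact ⟨w, ⟨hw', hw⟩, fun h => hw1 (Subtype.ext ((QuotientGroup.eq_one_iff w).mpr h))⟩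
  set Z₀ := W₁ ⊓ Qn
  have hPNcl : Cfsg.IsStronglyClosed (PN : Subgroup N) (PN : Subgroup N) := ⟨le_rfl, fun _ _ _ h => h⟩
  have hbot : Cfsg.IsStronglyClosed (⊥ : Subgroup N) (PN : Subgroup N) := ⟨bot_le, fun x hx g _ => by
    rw [mem_bot] at hx
    subst hx
    simp⟩
  have hZ₀cl : Cfsg.IsStronglyClosed Z₀ (PN : Subgroup N) := ⟨inf_le_left.trans hW₁P,
    fun x hx g hg => ⟨hW₁cl.2 x hx.1 g hg, Normal.conj_mem inferInstance x hx.2 g⟩⟩
  set A : Fin 3 → Subgroup N := ![(PN : Subgroup N), W₁, Z₀]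
  set B : Fin 3 → Subgroup N := ![W₁, Z₀, ⊥]
  have hnorm := Cfsg.Lib.ZJ.le_normalizer_of_stronglyClosed hW₁cl
  have hFn : (Cfsg.groupFusionSystem (PN : Subgroup N)).IsNormal W₁ := by
    refine Cfsg.Lib.Fusion.isNormal_of_sections (p := p) PN.isPGroup' (Cfsg.Lib.Fusion.saturated_group PN)
      (stronglyClosed_system hW₁cl) A B ?_ ?_ ?_ ?_
    · intro j
      fin_cases j
      · exact stronglyClosed_system hPNcl
      · exact stronglyClosed_system hW₁cl
      · exact stronglyClosed_system hZ₀cl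
    · intro j
      fin_cases j
      · exact stronglyClosed_system hW₁cl
      · exact stronglyClosed_system hZ₀cl
      · exact stronglyClosed_system hbot
    · intro j x hx g hg
      fin_cases j
      · show x⁻¹ * (g * x * g⁻¹) ∈ W₁
        have := W₁.mul_mem ((mem_normalizer_iff.mp (hnorm ((PN : Subgroup N).inv_mem hx)) g).mp hg)
          (W₁.inv_mem hg)
        simpa [mul_assoc] using this
      · show x⁻¹ * (g * x * g⁻¹) ∈ Z₀
        have hx' : x ∈ W₁ := hx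
        refine ⟨W₁.mul_mem (W₁.inv_mem hx') (W₁.mul_mem (W₁.mul_mem hg hx') (W₁.inv_mem hg)),
          (QuotientGroup.eq_one_iff _).mp (?_ : π (x⁻¹ * (g * x * g⁻¹)) = 1)⟩
        rw [map_mul, map_mul, map_mul, map_inv, map_inv, hWab _ hg.1 _ hx'.1, mul_assoc (π x),
          mul_inv_cancel, mul_one, inv_mul_cancel]
      · show x⁻¹ * (g * x * g⁻¹) ∈ (⊥ : Subgroup N)
        have hx' : x ∈ Z₀ := hx
        have h1 : (x : G) * g = g * x := mem_centralizer_iff.mp hg.2.2 (x : G) hx'.2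
        have h2 : x * g = g * x := Subtype.ext h1
        rw [mem_bot, ← h2, mul_inv_cancel_right, inv_mul_cancel]
    · intro R hRn _ _ α _ hcop hα
      have hR := hRn.1
      have h2 : ∀ y : R, (y : N) ∈ Z₀ → α y = y := fun y hy => by
        have h := hα 2 y hy
        rw [show B 2 = ⊥ from rfl, mem_bot, inv_mul_eq_one] at h
        exact Subtype.ext h.symm
      have h1 : ∀ y : R, (y : N) ∈ W₁ → α y = y := fun y hy =>
        Cfsg.Lib.Fusion.fix_of_fix_mem PN.isPGroup' hR hcop (hα 1 y hy) h2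
      exact MulEquiv.ext fun y =>
        Cfsg.Lib.Fusion.fix_of_fix_mem PN.isPGroup' hR hcop (hα 0 y (hR y.2)) h1
  set Q' := Q ⊔ W₁.map N.subtype
  have hWn : ∀ n : N, n ∈ normalizer (W₁ : Set N) →
      (W₁.map N.subtype).map (MulAut.conj (n : G)).toMonoidHom = W₁.map N.subtype := fun n hn =>
    Cfsg.Lib.Transfer.map_conj_eq_self_iff.mpr (le_normalizer_map N.subtype ⟨n, hn, rfl⟩)
  have hctl : Ctl (P : Subgroup G) Q' := by
    refine ctl_step hQ (sup_le hQ.1 ?_) ?_ ?_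
    · rintro _ ⟨x, hx, rfl⟩
      exact hW₁P hx
    · intro x hx
      rw [← Cfsg.Lib.Transfer.map_conj_eq_self_iff, Subgroup.map_sup,
        Cfsg.Lib.Transfer.map_conj_eq_self_iff.mpr (hPN hx),
        hWn ⟨x, hPN hx⟩ (hnorm ((hmemPN _).mpr hx))]
    · intro S hS g hg hgS
      set S' := (closure S).subgroupOf N
      have hS' : S' ≤ (PN : Subgroup N) := fun x hx => ((closure_le _).mpr hS) hx
      have hgcl : ∀ x ∈ closure S, g * x * g⁻¹ ∈ (P : Subgroup G) := fun x hx => by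
        have h : closure S ≤ (P : Subgroup G).comap (MulAut.conj g).toMonoidHom :=
          (closure_le _).mpr hgS
        exact h hx
      obtain ⟨ψ, hψ, hext, hfix⟩ := hFn.2 S' (Cfsg.conjHom S' ⟨g, hg⟩)
        ⟨hS', fun x => hgcl _ x.2, ⟨g, hg⟩, fun x => rfl⟩
      obtain ⟨-, -, g', hg'⟩ := hψ
      have hg'W : g' ∈ normalizer (W₁ : Set N) := mem_normalizer_of_maps fun x hx => by
        have h : ψ ⟨x, mem_sup_right hx⟩ ∈ W₁ := hfix.le ⟨⟨x, mem_sup_right hx⟩, hx, rfl⟩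
        rwa [hg'] at h
      refine ⟨g', ?_, fun a ha => ?_⟩
      · rw [← Cfsg.Lib.Transfer.map_conj_eq_self_iff, Subgroup.map_sup,
          Cfsg.Lib.Transfer.map_conj_eq_self_iff.mpr g'.2, hWn g' hg'W]
      · have h := hext ⟨⟨a, hPN (hS ha)⟩, subset_closure ha⟩
        rw [hg'] at h
        exact congrArg Subtype.val h
  exact hwQ (hmax Q' hctl le_sup_left (mem_sup_right ⟨w, hwW₁, rfl⟩))

/-- the Sylow subgroup meets a normal subgroup of the normalizer in a Sylow subgroup -/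
theorem not_dvd_relIndex_inf (P : Sylow p G) {Q X : Subgroup G}
    (hP : (P : Subgroup G) ≤ normalizer (Q : Set G)) (hX : X ≤ normalizer (Q : Set G))
    (hXn : normalizer (Q : Set G) ≤ normalizer (X : Set G)) :
    ¬ p ∣ ((P : Subgroup G) ⊓ X).relIndex X := by
  rw [inf_relIndex_right, ← relIndex_subgroupOf hX]
  haveI : (X.subgroupOf (normalizer (Q : Set G))).Normal :=
    (normal_subgroupOf_iff_le_normalizer hX).mpr hXn
  exact fun h => (P.subtype hP).not_dvd_index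
    (h.trans (Cfsg.Lib.Components.relIndex_dvd_index_of_normal_right _ _))

theorem le_of_relIndex_coprime {M X : Subgroup G} (hM : M ≤ X) {a b : ℕ} (hab : a.Coprime b)
    (ha : M.relIndex X ∣ a) (hb : M.relIndex X ∣ b) : M = X :=
  le_antisymm hM (relIndex_eq_one.mp (Nat.eq_one_of_dvd_coprimes hab ha hb))

/-- a maximal subgroup with controlling normalizer is radical -/
theorem radical_of_maximal (P : Sylow p G) {Q : Subgroup G} (hQ : Ctl (P : Subgroup G) Q)
    (hmax : ∀ Q' : Subgroup G, Ctl (P : Subgroup G) Q' → Q ≤ Q' → Q' ≤ Q)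
    (hcent : (P : Subgroup G) ⊓ centralizer (Q : Set G) ≤ Q) (X : Subgroup G)
    (hXN : X ≤ normalizer (Q : Set G)) (hXn : normalizer (Q : Set G) ≤ normalizer (X : Set G))
    (hQX : Q ⊔ centralizer (Q : Set G) ≤ X)
    (hk : ∃ k : ℕ, (Q ⊔ centralizer (Q : Set G)).relIndex X = p ^ k) :
    X = Q ⊔ centralizer (Q : Set G) := by
  have hpp : p.Prime := Fact.out
  obtain ⟨k, hk⟩ := hk
  set C := centralizer (Q : Set G)
  set N := normalizer (Q : Set G)
  have hPN : (P : Subgroup G) ≤ N := hQ.2.1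
  have hCN : C ≤ N := centralizer_le_normalizer (Q : Set G)
  set Q₁ := (P : Subgroup G) ⊓ X
  have hQQ₁ : Q ≤ Q₁ := le_inf hQ.1 (le_sup_left.trans hQX)
  have hX : Q₁ ⊔ (Q ⊔ C) = X := by
    refine le_of_relIndex_coprime (sup_le inf_le_right hQX)
      ((hpp.coprime_iff_not_dvd.mpr (not_dvd_relIndex_inf P hPN hXN hXn)).pow_left k) ?_ ?_
    · exact hk ▸ relIndex_dvd_of_le_left X le_sup_right
    · exact relIndex_dvd_of_le_left X le_sup_left
  -- the centralizer has a normal `p`-complement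
  have hT : ¬ p ∣ ((Q ⊓ C).subgroupOf C).index := by
    have h : (P : Subgroup G) ⊓ C = Q ⊓ C :=
      le_antisymm (le_inf hcent inf_le_right) (inf_le_inf_right C hQ.1)
    have := not_dvd_relIndex_inf P hPN hCN (Cfsg.Lib.Thompson.normalizer_le_normalizer_centralizer Q)
    rwa [h] at this
  set T : Sylow p C := (((P.isPGroup'.to_le hQ.1).to_le inf_le_left).comap_subtype (K := C)).toSylow hT
  have hTC : normalizer ((T : Subgroup C) : Set C) ≤ centralizer ((T : Subgroup C) : Set C) :=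
    fun x _ => mem_centralizer_iff.mpr fun y hy => Subtype.ext
      (mem_centralizer_iff.mp x.2 (y : G) (show (y : C) ∈ (Q ⊓ C).subgroupOf C from hy).1)
  set f := MonoidHom.transferSylow T hTC
  have hcompl := MonoidHom.ker_transferSylow_isComplement' T hTC
  have hKp : (Nat.card f.ker).Coprime p :=
    (hpp.coprime_iff_not_dvd.mpr (MonoidHom.not_dvd_card_ker_transferSylow T hTC)).symm
  set K := f.ker.map C.subtype
  have hKC : K ≤ C := map_subtype_le _
  have hKp' : (Nat.card K).Coprime p := by rwa [card_map_of_injective C.subtype_injective]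
  have hKmem : ∀ x : C, (orderOf x).Coprime p → x ∈ f.ker := fun x hx => by
    obtain ⟨n, hn⟩ := (T.isPGroup') (f x)
    have h1 : orderOf (f x) ∣ orderOf x := orderOf_map_dvd f x
    exact MonoidHom.mem_ker.mpr (orderOf_eq_one_iff.mp
      (Nat.eq_one_of_dvd_coprimes (hx.pow_right n) h1 (orderOf_dvd_of_pow_eq_one hn)))
  have hKn : N ≤ normalizer (K : Set G) := fun n hn => mem_normalizer_of_maps fun x hx => by
    obtain ⟨c, hc, rfl⟩ := hx
    refine ⟨⟨n * c * n⁻¹, conj_mem_centralizer hn c.2⟩, hKmem _ ?_, rfl⟩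
    rw [← orderOf_coe]
    show (orderOf (n * (c : G) * n⁻¹)).Coprime p
    rw [← MulAut.conj_apply, MulEquiv.orderOf_eq]
    exact (hKp'.coprime_dvd_left (orderOf_dvd_natCard (⟨c, c, hc, rfl⟩ : K))) |> fun h => by
      rwa [← orderOf_coe] at h
  have hCK : C ≤ K ⊔ Q := fun c hc => by
    obtain ⟨⟨a, b⟩, hab⟩ := hcompl.2 ⟨c, hc⟩
    have := mul_mem (mem_sup_left ⟨a, a.2, rfl⟩ : ((a : C) : G) ∈ K ⊔ Q)
      (mem_sup_right (show (b : C) ∈ (Q ⊓ C).subgroupOf C from b.2).1)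
    have h2 : ((a : C) : G) * C.subtype (b : C) = c := congrArg Subtype.val hab
    rwa [h2] at this
  have hXKP : X ≤ K ⊔ (P : Subgroup G) := hX ▸ sup_le (inf_le_left.trans le_sup_right)
    (sup_le (hQ.1.trans le_sup_right) (hCK.trans (sup_le_sup_left hQ.1 K)))
  -- the larger subgroup still controls fusion
  have hctl : Ctl (P : Subgroup G) Q₁ := by
    refine ctl_step hQ inf_le_left (fun x hx => ?_) ?_
    · refine mem_normalizer_of_maps fun y hy =>
        ⟨(P : Subgroup G).mul_mem ((P : Subgroup G).mul_mem hx hy.1) ((P : Subgroup G).inv_mem hx), ?_⟩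
      exact (mem_normalizer_iff.mp (hXn (hPN hx)) y).mp hy.2
    intro S hS g hg hgS
    set M := Q₁ ⊔ closure S
    have hMP : M ≤ (P : Subgroup G) := sup_le inf_le_left ((closure_le _).mpr hS)
    have hM' : M.map (MulAut.conj g).toMonoidHom ≤ K ⊔ (P : Subgroup G) := by
      rw [Subgroup.map_sup]
      refine sup_le ?_ (le_trans ?_ le_sup_right)
      · rintro _ ⟨x, hx, rfl⟩
        exact hXKP ((mem_normalizer_iff.mp (hXn hg) x).mp hx.2)
      · rw [MonoidHom.map_closure, closure_le]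
        rintro _ ⟨x, hx, rfl⟩
        exact hgS x hx
    set L := K ⊔ (P : Subgroup G)
    obtain ⟨T', hT'⟩ := (((P.isPGroup'.to_le hMP).map (MulAut.conj g).toMonoidHom).comap_subtype
      (K := L)).exists_le_sylow
    obtain ⟨m, hm⟩ := MulAction.exists_smul_eq L T' (P.subtype le_sup_right)
    obtain ⟨s, hs, c, hc, hsc⟩ :=
      (Cfsg.Lib.Coprime.mem_sup_of_le_normalizer (hPN.trans hKn)).mp (show (m : G)⁻¹ ∈ K ⊔ _ from inv_mem m.2)
    have hk1 : ∀ y ∈ M, s⁻¹ * (g * y * g⁻¹) * s ∈ (P : Subgroup G) := by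
      intro y hy
      have h5 : m * ⟨g * y * g⁻¹, hM' ⟨y, hy, rfl⟩⟩ * m⁻¹ ∈
          (P.subtype (le_sup_right : (P : Subgroup G) ≤ L) : Subgroup L) := by
        rw [← hm]
        exact Cfsg.Lib.Transfer.mem_conj_sylow_iff.mpr (hT' ⟨y, hy, rfl⟩)
      have h6 : (m : G) * (g * y * g⁻¹) * (m : G)⁻¹ ∈ (P : Subgroup G) := h5
      have h7 := mul_mem (mul_mem hc h6) (inv_mem hc)
      have hm' : (m : G) = c⁻¹ * s⁻¹ := by rw [← inv_inv (m : G), ← hsc, mul_inv_rev]
      rw [hm'] at h7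
      simpa [mul_assoc] using h7
    have hsN : s ∈ N := hCN (hKC hs)
    refine ⟨s⁻¹ * g, mem_normalizer_of_maps fun y hy => ⟨?_, ?_⟩, fun a ha => ?_⟩
    · show s⁻¹ * g * y * (s⁻¹ * g)⁻¹ ∈ (P : Subgroup G)
      rw [show s⁻¹ * g * y * (s⁻¹ * g)⁻¹ = s⁻¹ * (g * y * g⁻¹) * s by group]
      exact hk1 y (mem_sup_left hy)
    · exact (mem_normalizer_iff.mp (hXn (mul_mem (inv_mem hsN) hg)) y).mp hy.2
    · set b := g * a * g⁻¹
      have hb : b ∈ (P : Subgroup G) := hgS a ha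
      have h1 : s⁻¹ * b * s * b⁻¹ ∈ (P : Subgroup G) :=
        mul_mem (hk1 a (mem_sup_right (subset_closure ha))) (inv_mem hb)
      have h2 : s⁻¹ * b * s * b⁻¹ ∈ K := by
        rw [show s⁻¹ * b * s * b⁻¹ = s⁻¹ * (b * s * b⁻¹) by group]
        exact mul_mem (inv_mem hs) ((mem_normalizer_iff.mp (hKn (hPN hb)) s).mp hs)
      obtain ⟨r, hr⟩ := IsPGroup.iff_card.mp P.isPGroup'
      have h3 := Cfsg.Lib.Coprime.eq_one_of_coprime (N := K) (H := (P : Subgroup G))
        (by rw [hr]; exact hKp'.pow_right r) h2 h1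
      rw [mul_inv_eq_one] at h3
      calc s⁻¹ * g * a * (s⁻¹ * g)⁻¹ = s⁻¹ * b * s := by simp only [b]; group
        _ = b := h3
  have hle := hmax Q₁ hctl hQQ₁
  rw [← hX]
  exact le_antisymm (sup_le (hle.trans le_sup_left) le_rfl) le_sup_right

/-- every centric radical subgroup contains `Q` -/
theorem le_of_centricRadical (P : Sylow p G) {Q R : Subgroup G} (hQ : Ctl (P : Subgroup G) Q)
    (hR : R ≤ (P : Subgroup G))
    (hsyl : ∃ T : Sylow p ↥(centralizer (R : Set G)),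
      (T : Subgroup ↥(centralizer (R : Set G))).map (centralizer (R : Set G)).subtype = R ⊓ centralizer (R : Set G))
    (hrad : ∀ X : Subgroup G, X ≤ normalizer (R : Set G) →
        (∀ n ∈ normalizer (R : Set G), X.map (MulAut.conj n).toMonoidHom = X) →
        R ⊔ centralizer (R : Set G) ≤ X →
        (∃ k : ℕ, (R ⊔ centralizer (R : Set G)).relIndex X = p ^ k) →
        X = R ⊔ centralizer (R : Set G)) : Q ≤ R := by
  set C := centralizer (R : Set G)
  set N := normalizer (R : Set G)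
  obtain ⟨T, hT⟩ := hsyl
  have hCN : C ≤ N := centralizer_le_normalizer (R : Set G)
  have hNC : N ≤ normalizer (C : Set G) := Cfsg.Lib.Thompson.normalizer_le_normalizer_centralizer R
  set Y := (Q ⊔ R) ⊓ N
  have hRY : R ≤ Y := le_inf le_sup_right le_normalizer
  have hYP : Y ≤ (P : Subgroup G) := inf_le_left.trans (sup_le hQ.1 hR)
  set X := Y ⊔ C
  have hXN : X ≤ N := sup_le inf_le_right hCN
  have hXn : ∀ n ∈ N, X.map (MulAut.conj n).toMonoidHom = X := by
    intro n hn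
    have hnR : ∀ r ∈ R, n * r * n⁻¹ ∈ R := fun r hr => (mem_normalizer_iff.mp hn r).mp hr
    obtain ⟨h, hh, he⟩ := hQ.2.2 (R : Set G) hR n fun r hr => hR (hnR r hr)
    have hhR : h ∈ N := mem_normalizer_of_maps fun r hr => (he r hr).symm ▸ hnR r hr
    have hc : h⁻¹ * n ∈ C := mem_centralizer_iff.mpr fun r hr => by
      have := he r hr
      calc r * (h⁻¹ * n) = h⁻¹ * (h * r * h⁻¹) * n := by group
        _ = h⁻¹ * (n * r * n⁻¹) * n := by rw [this]
        _ = h⁻¹ * n * r := by group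
    have hsup : h ∈ normalizer ((Q ⊔ R : Subgroup G) : Set G) := by
      rw [← Cfsg.Lib.Transfer.map_conj_eq_self_iff] at hh hhR ⊢
      rw [Subgroup.map_sup, hh, hhR]
    have hhY : h ∈ normalizer (Y : Set G) := mem_normalizer_of_maps fun y hy =>
      ⟨(mem_normalizer_iff.mp hsup y).mp hy.1, N.mul_mem (N.mul_mem hhR hy.2) (N.inv_mem hhR)⟩
    have hhX : h ∈ normalizer (X : Set G) := by
      have hhC := hNC hhR
      rw [← Cfsg.Lib.Transfer.map_conj_eq_self_iff] at hhY hhC ⊢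
      rw [Subgroup.map_sup, hhY, hhC]
    rw [Cfsg.Lib.Transfer.map_conj_eq_self_iff, show n = h * (h⁻¹ * n) by group]
    exact mul_mem hhX (le_normalizer (mem_sup_right hc))
  have hM : R ⊔ C ≤ X := sup_le (hRY.trans le_sup_left) le_sup_right
  have hk : ∃ k : ℕ, (R ⊔ C).relIndex X = p ^ k := by
    have hMn : X ≤ normalizer ((R ⊔ C : Subgroup G) : Set G) := fun x hx => by
      have h1 := Cfsg.Lib.Transfer.map_conj_eq_self_iff.mpr (hXN hx)
      have h2 := Cfsg.Lib.Transfer.map_conj_eq_self_iff.mpr (hNC (hXN hx))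
      rw [← Cfsg.Lib.Transfer.map_conj_eq_self_iff, Subgroup.map_sup, h1, h2]
    haveI : ((R ⊔ C).subgroupOf X).Normal := (normal_subgroupOf_iff_le_normalizer hM).mpr hMn
    set f := (QuotientGroup.mk' ((R ⊔ C).subgroupOf X)).comp (inclusion (le_sup_left : Y ≤ X))
    have hf : Function.Surjective f := fun z => by
      obtain ⟨⟨x, hx⟩, rfl⟩ := QuotientGroup.mk'_surjective _ z
      obtain ⟨c, hc, y, hy, hcy⟩ := (Cfsg.Lib.Coprime.mem_sup_of_le_normalizer
        ((inf_le_right : Y ≤ N).trans hNC)).mp ((sup_comm Y C).le hx)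
      refine ⟨⟨y, hy⟩, QuotientGroup.eq.mpr ?_⟩
      show y⁻¹ * x ∈ R ⊔ C
      rw [← hcy]
      exact mem_sup_right (by
        simpa [mul_assoc] using (mem_normalizer_iff.mp (hNC (inv_mem hy.2)) c).mp hc)
    obtain ⟨k, hk⟩ := IsPGroup.iff_card.mp
      (((P.isPGroup'.to_le hYP)).of_surjective f hf)
    exact ⟨k, by rw [← hk]; rfl⟩
  have hX := hrad X hXN hXn hM hk
  have hYR : Y ≤ R := fun y hy => by
    have hyX : y ∈ R ⊔ C := hX ▸ mem_sup_left hy
    obtain ⟨c, hc, r, hr, hcr⟩ := (Cfsg.Lib.Coprime.mem_sup_of_le_normalizer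
      ((le_normalizer : R ≤ N).trans hNC)).mp ((sup_comm R C).le hyX)
    have hcY : c ∈ Y := by
      rw [show c = y * r⁻¹ by rw [← hcr]; group]
      exact mul_mem hy (inv_mem (hRY hr))
    have hle : (T : Subgroup C) ≤ Y.subgroupOf C := fun t ht => hRY (hT.le ⟨t, ht, rfl⟩).1
    have heq := T.is_maximal' ((P.isPGroup'.to_le hYP).comap_subtype (K := C)) hle
    have hcR : c ∈ R := (hT.le ⟨⟨c, hc⟩, heq ▸ (show (⟨c, hc⟩ : C) ∈ Y.subgroupOf C from hcY), rfl⟩).1
    rw [← hcr]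
    exact mul_mem hcR hr
  by_contra hcon
  have hlt : R < Q ⊔ R := lt_of_le_of_ne le_sup_right fun h => hcon (h ▸ le_sup_left)
  exact (Cfsg.Lib.Fusion.lt_inf_normalizer P.isPGroup' hlt (sup_le hQ.1 hR)).not_ge hYR

theorem exists_maximal_ctl (P : Sylow p G) : ∃ Q : Subgroup G, Ctl (P : Subgroup G) Q ∧
    ∀ Q' : Subgroup G, Ctl (P : Subgroup G) Q' → Q ≤ Q' → Q' ≤ Q := by
  obtain ⟨Q, hQ⟩ := (Set.toFinite {Q : Subgroup G | Ctl (P : Subgroup G) Q}).exists_maximal
    ⟨⊥, bot_le, by rw [normalizer_eq_top]; exact le_top,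
      fun A _ g _ => ⟨g, by rw [normalizer_eq_top]; exact mem_top g, fun a _ => rfl⟩⟩
  exact ⟨Q, hQ.1, fun Q' hQ' hle => hQ.2 hQ' hle⟩

end Cfsg.Lib.LeastCR
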